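import Mathlib.GroupTheory.PGroup
import Mathlib.GroupTheory.Perm.Cycle.Type
import Mathlib.GroupTheory.Subgroup.Centralizer

/-!
# An automorphism inverting `Ω₁` forces `Ω₁` to be central
-/

set_option autoImplicit false

namespace CfsgLib.FusionOmega

theorem pow_apply_of_inverts {P : Type*} [Group P] {E : Subgroup P} {α : MulAut P}
    (hinv : ∀ x ∈ E, α x = x⁻¹) (n : ℕ) : ∀ x ∈ E, (α ^ n) x = if Even n then x else x⁻¹ := by
  intro x hx
  induction n with
  | zero => simp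
  | succ n ih =>
    rw [pow_succ', MulAut.mul_apply, ih]
    by_cases h : Even n
    · simp [h, Nat.even_add_one, hinv x hx]
    · simp [h, Nat.even_add_one, map_inv, hinv x hx]

/-- In a `p`-group with `p` odd, an automorphism inverting a normal subgroup containing all
elements of order `p` makes it central. -/
theorem central_of_inverts {P : Type*} [Group P] [Finite P] {p : ℕ} [hp : Fact p.Prime]
    (hP : IsPGroup p P) (hp2 : p ≠ 2) {E : Subgroup P} [E.Normal]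
    (homega : ∀ x : P, x ^ p = 1 → x ∈ E) {α : MulAut P} (hinv : ∀ x ∈ E, α x = x⁻¹) (g : P) :
    g ∈ Subgroup.centralizer (E : Set P) := by
  classical
  by_contra hg
  set M := Subgroup.centralizer (E : Set P) with hM
  obtain ⟨k, m, hmodd, hkm⟩ := Nat.exists_eq_two_pow_mul_odd (orderOf_pos α).ne'
  set β := α ^ m with hβdef
  have hβ : β ^ (2 ^ k) = 1 := by rw [hβdef, ← pow_mul, mul_comm, ← hkm, pow_orderOf_eq_one]
  have hβinv : ∀ x ∈ E, β x = x⁻¹ := fun x hx => by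
    rw [hβdef, pow_apply_of_inverts hinv m x hx, if_neg (Nat.not_even_iff_odd.2 hmodd)]
  have hmove : ∀ y : P, y⁻¹ * β y ∈ M := by
    intro y
    rw [hM, Subgroup.mem_centralizer_iff]
    intro x hx
    have hx' : y * x⁻¹ * y⁻¹ ∈ E := ‹E.Normal›.conj_mem _ (inv_mem hx) y
    have h2 : β (y * x⁻¹ * y⁻¹) = (y * x⁻¹ * y⁻¹)⁻¹ := hβinv _ hx'
    rw [map_mul, map_mul, map_inv β y, hβinv _ (inv_mem hx), inv_inv] at h2
    have h4 : β y * x * (β y)⁻¹ = y * x * y⁻¹ := by simpa [mul_assoc] using h2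
    have h5 := mul_inv_eq_iff_eq_mul.1 h4
    calc x * (y⁻¹ * β y) = y⁻¹ * (y * x * y⁻¹ * β y) := by simp [mul_assoc]
      _ = y⁻¹ * (β y * x) := by rw [h5]
      _ = y⁻¹ * β y * x := by rw [mul_assoc]
  have hX : ∀ y : P, g⁻¹ * y ∈ M ↔ g⁻¹ * β y ∈ M := fun y => by
    rw [show g⁻¹ * β y = g⁻¹ * y * (y⁻¹ * β y) by simp [mul_assoc],
      Subgroup.mul_mem_cancel_right _ (hmove y)]
  let σ : Equiv.Perm {y : P // g⁻¹ * y ∈ M} := Equiv.Perm.subtypePerm β.toEquiv fun y => (hX y).symm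
  have hpow : ∀ (n : ℕ) (y : {y : P // g⁻¹ * y ∈ M}), ((σ ^ n) y : P) = (β ^ n) y := by
    intro n
    induction n with
    | zero => intro y; rfl
    | succ n ih =>
      intro y
      rw [pow_succ', Equiv.Perm.mul_apply, pow_succ', MulAut.mul_apply, ← ih y]
      rfl
  have hσ : σ ^ (2 ^ k) = 1 := Equiv.ext fun y => Subtype.ext (by rw [hpow, hβ]; rfl)
  haveI := Fintype.ofFinite {y : P // g⁻¹ * y ∈ M}
  have hodd : ¬ 2 ∣ Fintype.card {y : P // g⁻¹ * y ∈ M} := by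
    have e : {y : P // g⁻¹ * y ∈ M} ≃ M :=
      ⟨fun y => ⟨g⁻¹ * y, y.2⟩, fun z => ⟨g * z, by simp⟩, fun y => by simp, fun z => by simp⟩
    rw [← Nat.card_eq_fintype_card, Nat.card_congr e]
    obtain ⟨j, hj⟩ := IsPGroup.iff_card.1 (hP.to_subgroup M)
    rw [hj]
    exact fun h => hp2 ((Nat.prime_dvd_prime_iff_eq Nat.prime_two hp.1).1
      (Nat.prime_two.dvd_of_dvd_pow h)).symm
  obtain ⟨⟨h, hh⟩, hfix⟩ := Equiv.Perm.exists_fixed_point_of_prime (p := 2) hodd hσ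
  have hfix' : β h = h := congrArg Subtype.val hfix
  have hh1 : h ≠ 1 := fun e => hg (by
    rw [e, mul_one] at hh
    exact inv_mem_iff.1 hh)
  obtain ⟨j, hj⟩ := IsPGroup.iff_orderOf.1 hP h
  obtain ⟨j, rfl⟩ : ∃ i, j = i + 1 :=
    Nat.exists_eq_succ_of_ne_zero fun h0 => hh1 (orderOf_eq_one_iff.1 (by rw [hj, h0, pow_zero]))
  set w := h ^ (p ^ j) with hw
  have hwp : w ^ p = 1 := by rw [hw, ← pow_mul, ← pow_succ, ← hj, pow_orderOf_eq_one]
  have hw1 : w ≠ 1 := fun e => by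
    have h1 := orderOf_dvd_of_pow_eq_one e
    rw [hj, Nat.pow_dvd_pow_iff_le_right hp.1.one_lt] at h1
    omega
  have hwinv : w⁻¹ = w := by
    rw [← hβinv w (homega w hwp), hw, map_pow, hfix']
  have hw2 : w ^ 2 = 1 := by
    rw [sq]
    nth_rw 1 [← hwinv]
    exact inv_mul_cancel w
  have hcop : Nat.Coprime 2 p := (Nat.coprime_primes Nat.prime_two hp.1).2 (Ne.symm hp2)
  have h1 := Nat.dvd_gcd (orderOf_dvd_of_pow_eq_one hw2) (orderOf_dvd_of_pow_eq_one hwp)
  rw [hcop.gcd_eq_one, Nat.dvd_one, orderOf_eq_one_iff] at h1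
  exact hw1 h1

end CfsgLib.FusionOmega
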