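import Cfsg.Agent.S5236
import Cfsg.Agent.FusionEssential.Aut
import Cfsg.Agent.FusionEssential.GL2
import Cfsg.Agent.FusionOmega.NoInversion
import Cfsg.Agent.Fusion.NormalSubgroup
import Cfsg.Agent.Solvable.Nilpotent

/-!
# Strongly closed subgroups with `Ω₁` of order at most `p ^ 2` (`p` odd)
-/

set_option autoImplicit false
set_option linter.style.haveILetI false

namespace CfsgLib.FusionOmega

open Cfsg Cfsg.FusionSystem CfsgLib.Fusion CfsgLib.FusionEssential
open scoped commutatorElement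

variable {Ω : Type*} [Group Ω] {S P E Z : Subgroup Ω} {F : FusionSystem S} {p : ℕ}

/-- If `Z` is moved in `F` inside `E` of order `p ^ 2`, then `Aut_F(E)` contains the inversion. -/
theorem exists_inversion [Fact p.Prime] (hES : E ≤ S) (hEc : ∀ a b : E, a * b = b * a)
    (hEexp : ∀ x : E, x ^ p = 1) (hEcard : Nat.card E = p ^ 2) {u ψ : MulAut E}
    (hu : u ∈ F.autGroup E) (hψ : ψ ∈ F.autGroup E) {a : ℕ} (hup : u ^ (p ^ a) = 1)
    {Z : Subgroup E} (hfix : ∀ x : E, u x = x ↔ x ∈ Z) (hZ : Nat.card Z = p) {z : E} (hz : z ∈ Z)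
    (hmove : ψ z ∉ Z) : ∃ ι ∈ F.autGroup E, ∀ x : E, ι x = x⁻¹ := by
  haveI : Finite E := Nat.finite_of_card_ne_zero (by
    rw [hEcard]; exact pow_ne_zero _ (Fact.out : p.Prime).ne_zero)
  obtain ⟨f⟩ := exists_mulEquiv_fin_of_elementary hEc hEexp hEcard
  let Φ : MulAut E →* GL (Fin 2) (ZMod p) := (autMatrix f).toHomUnits
  let w := ψ * u * ψ⁻¹
  have hne : u * w ≠ w * u := by
    intro hc
    apply hmove
    rw [← hfix]
    -- `u` fixes `ψ z`, since it fixes the line `ψ Z` setwise and has `p`-power order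
    have hw : ∀ x : E, w x = x ↔ x ∈ Z.map ψ.toMonoidHom := by
      intro x
      rw [Subgroup.mem_map]
      constructor
      · intro hx
        refine ⟨ψ⁻¹ x, (hfix _).1 ?_, by simp⟩
        simpa [w] using congrArg (ψ⁻¹ : MulAut E) hx
      · rintro ⟨y, hy, rfl⟩
        simp [w, (hfix y).2 hy]
    have hy : u (ψ z) ∈ Z.map ψ.toMonoidHom := by
      rw [← hw]
      have h1 : (u * w) (ψ z) = (w * u) (ψ z) := by rw [hc]
      have h2 : u (w (ψ z)) = w (u (ψ z)) := h1
      rw [(hw (ψ z)).2 ⟨z, hz, rfl⟩] at h2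
      exact h2.symm
    obtain ⟨y, hyZ, hyu⟩ := Subgroup.mem_map.1 hy
    change ψ y = u (ψ z) at hyu
    have hz1 : z ≠ 1 := fun h => hmove (by rw [h, map_one]; exact one_mem _)
    have hgen : (⟨y, hyZ⟩ : Z) ∈ Submonoid.powers (⟨z, hz⟩ : Z) :=
      mem_powers_of_prime_card hZ (fun h => hz1 (congrArg Subtype.val h))
    obtain ⟨c, hc'⟩ := hgen
    have hyc : y = z ^ c := (congrArg Subtype.val hc').symm
    have h0 : u (ψ z) = ψ z ^ c := by rw [← hyu, hyc, map_pow]
    have hiter : ∀ n : ℕ, (u ^ n) (ψ z) = ψ z ^ (c ^ n) := by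
      intro n
      induction n with
      | zero => simp
      | succ n ih => rw [pow_succ' u, MulAut.mul_apply, ih, map_pow, h0, ← pow_mul, pow_succ' c]
    have h1 := hiter (p ^ a)
    rw [hup, MulAut.one_apply] at h1
    have hord : orderOf (ψ z) = p := orderOf_eq_prime (hEexp _) (by simpa using hz1)
    have hmod : c ^ (p ^ a) ≡ 1 [MOD p] := by
      have h3 : c ^ (p ^ a) ≡ 1 [MOD orderOf (ψ z)] :=
        pow_eq_pow_iff_modEq.1 (by rw [pow_one]; exact h1.symm)
      rwa [hord] at h3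
    rw [← ZMod.natCast_eq_natCast_iff, Nat.cast_pow, ZMod.pow_card_pow, Nat.cast_one] at hmod
    rw [← Nat.cast_one, ZMod.natCast_eq_natCast_iff] at hmod
    rw [h0]
    conv_rhs => rw [← pow_one (ψ z)]
    exact pow_eq_pow_iff_modEq.2 (by rw [hord]; exact hmod)
  have hwmem : w ∈ F.autGroup E := mul_mem (mul_mem hψ hu) (inv_mem hψ)
  have hinj : Function.Injective Φ := fun x y h =>
    autMatrix_injective f (congrArg Units.val h)
  obtain ⟨g, hg⟩ := exists_sl_two_le ((F.autGroup E).map Φ) ⟨u, hu, rfl⟩ ⟨w, hwmem, rfl⟩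
    (a := a) (b := a) (by rw [← map_pow, hup, map_one])
    (by rw [← map_pow, show w ^ (p ^ a) = 1 by rw [conj_pow, hup, mul_one, mul_inv_cancel],
      map_one])
    (fun h => hne (hinj ((map_mul Φ u w).trans (h.trans (map_mul Φ w u).symm))))
  let M : Matrix.SpecialLinearGroup (Fin 2) (ZMod p) := ⟨-1, by simp [Matrix.det_neg]⟩
  obtain ⟨ι, hι, hιM⟩ := hg M
  refine ⟨ι, hι, fun x => ?_⟩
  have hval : autMatrix f ι = -1 := by
    have h := congrArg Units.val hιM
    simp only [Units.val_mul] at h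
    change autMatrix f ι = (g : Matrix (Fin 2) (Fin 2) (ZMod p)) * (-1) *
      ((g⁻¹ : GL (Fin 2) (ZMod p)) : Matrix (Fin 2) (Fin 2) (ZMod p)) at h
    rwa [mul_neg, mul_one, neg_mul, Units.mul_inv] at h
  have h2 := autMatrix_mulVec f ι (f x).toAdd
  rw [hval, Matrix.neg_mulVec, Matrix.one_mulVec, ofAdd_toAdd, MulEquiv.symm_apply_apply] at h2
  refine f.injective (Multiplicative.toAdd.injective ?_)
  rw [map_inv, toAdd_inv, ← h2]

theorem mem_normalizer_commutator {A B : Subgroup Ω} {g : Ω}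
    (hA : g ∈ Subgroup.normalizer (A : Set Ω)) (hB : g ∈ Subgroup.normalizer (B : Set Ω)) :
    g ∈ Subgroup.normalizer ((⁅A, B⁆ : Subgroup Ω) : Set Ω) := by
  have hmap : ∀ (C : Subgroup Ω), g ∈ Subgroup.normalizer (C : Set Ω) →
      C.map (MulAut.conj g).toMonoidHom = C := by
    intro C hC
    ext x
    rw [Subgroup.mem_map]
    constructor
    · rintro ⟨y, hy, rfl⟩
      exact (Subgroup.mem_normalizer_iff.1 hC y).1 hy
    · intro hx
      exact ⟨g⁻¹ * x * g, (Subgroup.mem_normalizer_iff''.1 hC x).1 hx, by simp [mul_assoc]⟩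
  have h : (⁅A, B⁆ : Subgroup Ω).map (MulAut.conj g).toMonoidHom = ⁅A, B⁆ := by
    rw [Subgroup.map_commutator, hmap A hA, hmap B hB]
  rw [Subgroup.mem_normalizer_iff]
  intro x
  conv_rhs => rw [← h, Subgroup.mem_map]
  exact ⟨fun hx => ⟨x, hx, rfl⟩, fun ⟨y, hy, hyx⟩ => (MulAut.conj g).injective hyx ▸ hy⟩

/-- A nontrivial normal subgroup of order `p` of a `p`-group is centralised by it. -/
theorem le_centralizer_of_card_prime [Finite S] [Fact p.Prime] (hS : IsPGroup p S) {Z : Subgroup Ω}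
    (hZS : Z ≤ S) (hn : S ≤ Subgroup.normalizer (Z : Set Ω)) (hZ : Nat.card Z = p) :
    S ≤ Subgroup.centralizer (Z : Set Ω) := by
  intro g hg
  rw [Subgroup.mem_centralizer_iff]
  intro z hz
  haveI : (Z.subgroupOf S).Normal := ⟨fun x hx y => (Subgroup.mem_normalizer_iff.1 (hn y.2) _).1 hx⟩
  have hcard : Nat.card (Z.subgroupOf S) = p := by
    rw [Nat.card_congr (Subgroup.subgroupOfEquivOfLe hZS).toEquiv, hZ]
  haveI : Fact (Nat.card (Z.subgroupOf S)).Prime := ⟨hcard.symm ▸ Fact.out⟩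
  have hne : Z.subgroupOf S ≠ ⊥ := fun h => by
    rw [h, Subgroup.card_bot] at hcard
    exact (Fact.out : p.Prime).ne_one hcard.symm
  have hle : Z.subgroupOf S ≤ Subgroup.center S := by
    haveI : Group.IsNilpotent ↥S := hS.isNilpotent
    have hnt := CfsgLib.Solvable.inf_center_ne_bot hne
    rcases Subgroup.eq_bot_or_eq_top_of_prime_card
      ((Subgroup.center S).subgroupOf (Z.subgroupOf S)) with h | h
    · refine absurd ?_ hnt
      rw [eq_bot_iff]
      intro x hx
      have : (⟨x, hx.1⟩ : Z.subgroupOf S) ∈ (Subgroup.center S).subgroupOf _ := hx.2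
      rw [h, Subgroup.mem_bot] at this
      exact Subgroup.mem_bot.2 (congrArg Subtype.val this)
    · intro x hx
      have : (⟨x, hx⟩ : Z.subgroupOf S) ∈ (Subgroup.center S).subgroupOf _ :=
        h ▸ Subgroup.mem_top _
      exact this
  exact congrArg Subtype.val
    (Subgroup.mem_center_iff.1 (hle (x := ⟨z, hZS hz⟩) hz) ⟨g, hg⟩).symm

/-- For `p` odd, a strongly closed subgroup whose elements of order `p` generate a subgroup of
exponent `p` and order at most `p ^ 2` is normal in the system. -/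
theorem isNormal_of_small_omega [Finite S] [Fact p.Prime] (hS : IsPGroup p S)
    (hF : F.IsSaturated p) (hp2 : p ≠ 2) (hP : F.StronglyClosed P)
    (hexp : ∀ x ∈ omegaOne p P, x ^ p = 1) (hcard : Nat.card (omegaOne p P) ∣ p ^ 2) :
    F.IsNormal P := by
  classical
  have hp : p.Prime := Fact.out
  haveI := finite_of_le hP.1
  set E := omegaOne p P with hEdef
  have hEP : E ≤ P := Cfsg.Agent.S5236.omegaOne_le p P
  have hmem : ∀ x, x ∈ P → x ^ p = 1 → x ∈ E := fun x hx hxp => Subgroup.subset_closure ⟨hx, hxp⟩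
  have hES : E ≤ S := hEP.trans hP.1
  haveI := finite_of_le hES
  have hEsc : F.StronglyClosed E := ⟨hES, fun R hR φ hφ x => hmem _
    (hP.2 R (hR.trans hEP) φ hφ x) (by
      rw [← map_pow, show x ^ p = 1 from Subtype.ext (hexp _ (hR x.2)), map_one])⟩
  have hEn : S ≤ Subgroup.normalizer (E : Set Ω) := stronglyClosed_le_normalizer hEsc
  refine (Cfsg.Agent.S5236.result p hS F hF hp2 P hP).2 ?_
  by_cases htriv : ⁅E, P⁆ = ⊥
  · refine ⟨1, ![⊥, E], rfl, rfl, ?_, ?_, ?_⟩
    · intro i j hij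
      fin_cases i <;> fin_cases j <;> simp at hij ⊢
    · intro i
      fin_cases i
      · exact ⟨bot_le, fun R hR φ hφ x => by
          rw [show x = 1 from Subtype.ext (Subgroup.mem_bot.1 (hR x.2)), map_one]
          exact one_mem _⟩
      · exact hEsc
    · intro i
      fin_cases i
      exact htriv.le
  set Z := ⁅E, P⁆ with hZdef
  have hPn : S ≤ Subgroup.normalizer (P : Set Ω) := stronglyClosed_le_normalizer hP
  have hZE : Z ≤ E := by
    rw [hZdef, Subgroup.commutator_le]
    intro a ha b hb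
    rw [commutatorElement_def, mul_assoc, mul_assoc, ← mul_assoc b]
    exact mul_mem ha ((Subgroup.mem_normalizer_iff.1 (hEn (hP.1 hb)) _).1 (inv_mem ha))
  have hZne : Z ≠ E := by
    intro h
    have hle : ∀ j, E ≤ P.lowerCentralSeries j := by
      intro j
      induction j with
      | zero => exact hEP
      | succ j ih => exact h.ge.trans (Subgroup.commutator_mono ih le_rfl)
    haveI : Group.IsNilpotent ↥P := (hS.to_le hP.1).isNilpotent
    obtain ⟨m, hm⟩ := (Subgroup.isNilpotent_iff_lowerCentralSeries P).1 this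
    exact htriv (le_bot_iff.1 (h.le.trans ((hle m).trans hm.le)))
  obtain ⟨i, hi, hEi⟩ := (Nat.dvd_prime_pow hp).1 hcard
  haveI := finite_of_le (hZE.trans hES)
  obtain ⟨j, hj⟩ := IsPGroup.iff_card.1 (hS.to_le (hZE.trans hES))
  have hj0 : j ≠ 0 := fun h => htriv (Subgroup.card_eq_one.1 (by rw [hj, h, pow_zero]))
  have hji : j < i := by
    by_contra hle
    exact hZne (Subgroup.eq_of_le_of_card_ge hZE (by
      rw [hj, hEi]; exact Nat.pow_le_pow_right hp.pos (not_lt.1 hle)))
  obtain ⟨rfl, rfl⟩ : j = 1 ∧ i = 2 := by omega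
  haveI := finite_of_le (hZE.trans hES)
  rw [pow_one] at hj
  have hEc : ∀ a b : E, a * b = b * a :=
    (IsPGroup.isMulCommutative_of_card_eq_prime_sq hEi).is_comm.comm
  have hZn : S ≤ Subgroup.normalizer (Z : Set Ω) := fun c hc =>
    mem_normalizer_commutator (hEn hc) (hPn hc)
  have hZcent : S ≤ Subgroup.centralizer (Z : Set Ω) :=
    le_centralizer_of_card_prime hS (hZE.trans hES) hZn hj
  obtain ⟨g, hgP, hgE⟩ : ∃ g ∈ P, g ∉ Subgroup.centralizer (E : Set Ω) := by
    by_contra h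
    push Not at h
    apply htriv
    show ⁅E, P⁆ = ⊥
    rw [Subgroup.commutator_comm, Subgroup.commutator_eq_bot_iff_le_centralizer]
    exact h
  let u : MulAut E := E.normalizerMonoidHom ⟨g, hEn (hP.1 hgP)⟩
  have hu : u ∈ F.autGroup E := autInducedBy_le_autGroup hES
    (mem_autInducedBy_iff.2 ⟨g, hP.1 hgP, hEn (hP.1 hgP), fun _ => rfl⟩)
  obtain ⟨a, ha⟩ := hS ⟨g, hP.1 hgP⟩
  have hup : u ^ (p ^ a) = 1 := by
    rw [← map_pow, show (⟨g, hEn (hP.1 hgP)⟩ : Subgroup.normalizer (E : Set Ω)) ^ (p ^ a) = 1 from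
      Subtype.ext (congrArg Subtype.val ha : _), map_one]
  have hufix : ∀ x : E, u x = x ↔ x ∈ Z.subgroupOf E := by
    have hle : Z.subgroupOf E ≤ (u.toMonoidHom).eqLocus (MonoidHom.id E) := fun x hx =>
      Subtype.ext (by
        show g * (x : Ω) * g⁻¹ = x
        rw [← Subgroup.mem_centralizer_iff.1 (hZcent (hP.1 hgP)) x hx, mul_inv_cancel_right])
    intro x
    refine ⟨fun hx => by_contra fun hxZ => hgE ?_, fun hx => hle hx⟩
    have hidx : ((u.toMonoidHom).eqLocus (MonoidHom.id E)) = ⊤ := by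
      obtain ⟨k, hk⟩ := IsPGroup.iff_card.1
        ((hS.to_le hES).to_subgroup ((u.toMonoidHom).eqLocus (MonoidHom.id E)))
      refine Subgroup.eq_top_of_card_eq _ (le_antisymm (Subgroup.card_le_card_group _) ?_)
      rw [hEi, hk]
      refine Nat.pow_le_pow_right hp.pos ?_
      by_contra hk2
      have heq : Z.subgroupOf E = (u.toMonoidHom).eqLocus (MonoidHom.id E) :=
        Subgroup.eq_of_le_of_card_ge hle (by
          rw [Nat.card_congr (Subgroup.subgroupOfEquivOfLe hZE).toEquiv, hk, hj]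
          exact (Nat.pow_le_pow_right hp.pos (show k ≤ 1 by omega)).trans (pow_one p).le)
      exact hxZ (heq ▸ hx)
    rw [Subgroup.mem_centralizer_iff]
    intro e he
    have h1 : (⟨e, he⟩ : E) ∈ (u.toMonoidHom).eqLocus (MonoidHom.id E) := hidx ▸ Subgroup.mem_top _
    have h2 : g * e * g⁻¹ = e := congrArg Subtype.val h1
    exact (mul_inv_eq_iff_eq_mul.1 h2).symm
  have hZsc : F.StronglyClosed Z := by
    refine ⟨hZE.trans hES, fun R hR φ hφ x => by_contra fun hxZ => ?_⟩
    have hx1 : (x : Ω) ≠ 1 := fun h => hxZ (by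
      rw [show x = 1 from Subtype.ext h, map_one]; exact one_mem _)
    have hRZ : R = Z := by
      haveI := finite_of_le (hZE.trans hES)
      refine le_antisymm hR fun z hz => ?_
      haveI : Fact (Nat.card Z).Prime := ⟨hj.symm ▸ hp⟩
      rcases Subgroup.eq_bot_or_eq_top_of_prime_card (R.subgroupOf Z) with h | h
      · have h1 : (⟨x, hR x.2⟩ : Z) ∈ R.subgroupOf Z := x.2
        rw [h, Subgroup.mem_bot] at h1
        exact absurd (congrArg Subtype.val h1) hx1
      · exact (h ▸ Subgroup.mem_top _ : (⟨z, hz⟩ : Z) ∈ R.subgroupOf Z)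
    subst hRZ
    obtain ⟨e, he, heφ⟩ := exists_iso_range hφ
    have hYE : φ.range ≤ E := by
      rintro _ ⟨y, rfl⟩
      exact hEsc.2 Z hZE φ hφ y
    have hrec : F.IsReceptive Z := receptive_of_fullyCentralized hS hF
      ⟨hZE.trans hES, fun Q _ => by
        haveI := finite_of_le (centralizerIn_le S Z)
        refine Subgroup.card_le_of_le ?_
        exact fun c hc => ⟨hc.1, hZcent hc.1⟩⟩
    have hEle : E ≤ extender S φ.range (Z.subtype.comp e.symm.toMonoidHom) :=
      (show E ≤ centralizerIn S φ.range from le_inf hES fun c hc => by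
        rw [Subgroup.mem_centralizer_iff]
        intro y hy
        exact congrArg Subtype.val (hEc ⟨y, hYE hy⟩ ⟨c, hc⟩)).trans
        (centralizerIn_le_extender _)
    obtain ⟨ψ, hψ, hψe⟩ := exists_extension hrec he.symm hEle
    have hψE : ψ.range = E := by
      haveI : Finite ψ.range := Finite.of_equiv E
        (MonoidHom.ofInjective (F.injective_of_mem hψ)).toEquiv
      refine Subgroup.eq_of_le_of_card_ge ?_ ?_
      · rintro _ ⟨y, rfl⟩
        exact hEsc.2 E le_rfl ψ hψ y
      · exact (Nat.card_congr (MonoidHom.ofInjective (F.injective_of_mem hψ)).toEquiv).le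
    obtain ⟨Ψ, hΨ, hΨψ⟩ := exists_iso hψ hψE
    have hy : φ x ∈ E := hYE ⟨x, rfl⟩
    have hΨx : Ψ ⟨φ x, hy⟩ = (⟨x, hZE x.2⟩ : E) := by
      refine Subtype.ext ?_
      rw [hΨψ, hψe ⟨φ x, x, rfl⟩ hy]
      have : e x = ⟨φ x, x, rfl⟩ := Subtype.ext (heφ x)
      rw [← this, MulEquiv.symm_apply_apply]
    obtain ⟨ι, hι, hιinv⟩ := exists_inversion hES hEc (fun y => Subtype.ext (hexp _ y.2)) hEi hu
      (inv_mem hΨ.mem_autGroup) hup hufix
      (by rw [Nat.card_congr (Subgroup.subgroupOfEquivOfLe hZE).toEquiv, hj])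
      (z := ⟨x, hZE x.2⟩) x.2
      (fun h => hxZ (by
        have : (Ψ : MulAut E)⁻¹ ⟨x, hZE x.2⟩ = ⟨φ x, hy⟩ := by
          rw [← hΨx]; simp
        rw [this] at h
        exact h))
    -- extend `ι` to `S`
    have hEfn : F.IsFullyNormalized E := ⟨hES, fun Q _ => by
      haveI := finite_of_le (normalizerIn_le S E)
      exact Subgroup.card_le_of_le fun c hc => ⟨hc.1, hEn hc.1⟩⟩
    have hιiso : IsIso F ι := (mem_autGroup_iff hES).1 hι
    have hSle : S ≤ extender S E (E.subtype.comp ι.toMonoidHom) := fun c hc =>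
      mem_extender_iff.2 ⟨hc, hEn hc, c, hc, fun y hy => by
        show ((ι ⟨c * y * c⁻¹, hy⟩ : E) : Ω) = c * ((ι y : E) : Ω) * c⁻¹
        rw [hιinv, hιinv]
        simp [mul_assoc]⟩
    obtain ⟨α, hα, hαι⟩ := exists_extension (automized_receptive hS hF hEfn).2 hιiso hSle
    have hαP : ∀ y : P, restrictHom α hP.1 y ∈ P := fun y =>
      hP.2 P le_rfl _ (restrict_mem hα hP.1) y
    let β : P →* P := (restrictHom α hP.1).codRestrict P hαP
    have hβ : Function.Bijective β := by
      have hinj : Function.Injective β := fun y y' h =>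
        (F.injective_of_mem (restrict_mem hα hP.1)) (congrArg Subtype.val h)
      exact ⟨hinj, Finite.surjective_of_injective hinj⟩
    haveI : (E.subgroupOf P).Normal :=
      ⟨fun y hy c => (Subgroup.mem_normalizer_iff.1 (hEn (hP.1 c.2)) _).1 hy⟩
    have hcen := central_of_inverts (hS.to_le hP.1) hp2 (E := E.subgroupOf P)
      (fun y hy => hmem _ y.2 (congrArg Subtype.val hy)) (α := MulEquiv.ofBijective β hβ)
      (fun y hy => Subtype.ext (by
        show restrictHom α hP.1 y = ((y : P) : Ω)⁻¹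
        rw [restrictHom_apply]
        have h := hαι ⟨y, hy⟩ (hP.1 y.2)
        rw [hιinv] at h
        simpa using h)) ⟨g, hgP⟩
    refine hgE (Subgroup.mem_centralizer_iff.2 fun e he => ?_)
    exact congrArg Subtype.val (Subgroup.mem_centralizer_iff.1 hcen ⟨e, hEP he⟩ he)
  refine ⟨2, ![⊥, Z, E], rfl, rfl, ?_, ?_, ?_⟩
  · refine Fin.monotone_iff_le_succ.2 fun i => ?_
    fin_cases i
    · exact bot_le
    · exact hZE
  · intro i
    fin_cases i
    · exact ⟨bot_le, fun R hR φ hφ x => by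
        rw [show x = 1 from Subtype.ext (Subgroup.mem_bot.1 (hR x.2)), map_one]
        exact one_mem _⟩
    · exact hZsc
    · exact hEsc
  · intro i
    fin_cases i
    · show ⁅Z, P⁆ ≤ ⊥
      rw [le_bot_iff, Subgroup.commutator_comm, Subgroup.commutator_eq_bot_iff_le_centralizer]
      exact hP.1.trans hZcent
    · exact le_of_eq rfl

end CfsgLib.FusionOmega
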