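import Cfsg.Prelude.Def_OddOrderLocal
import Cfsg.Prelude.Def_PLocal
import Cfsg.Agent.MetacyclicPGroup.Basic
import Cfsg.Agent.FusionEssential.PPowHom
import Cfsg.Agent.Solvable.Nilpotent

/-!
# `Ω₁` of a metacyclic `p`-group, `p` odd
-/

set_option autoImplicit false
set_option linter.style.haveILetI false

namespace CfsgLib.FusionOmega

open scoped commutatorElement

variable {G : Type*} [Group G] [Finite G] {p : ℕ} [hp : Fact p.Prime]

/-- If `x` normalises `⟨a⟩` and `x ^ p` centralises `a`, then `⁅x, a⁆ ^ p = 1` (`p` odd). -/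
theorem pow_commutator_eq_one_of_pow_commute (hp2 : p ≠ 2) (hG : IsPGroup p G) {a x : G} {r : ℤ}
    (hr : x * a * x⁻¹ = a ^ r) (hx : Commute (x ^ p) a) : ⁅x, a⁆ ^ p = 1 := by
  obtain ⟨n, hn⟩ := IsPGroup.iff_orderOf.1 hG a
  have hit : ∀ i : ℕ, x ^ i * a * (x ^ i)⁻¹ = a ^ (r ^ i) := by
    intro i
    induction i with
    | zero => simp
    | succ i ih =>
      calc x ^ (i + 1) * a * (x ^ (i + 1))⁻¹ = MulAut.conj x (x ^ i * a * (x ^ i)⁻¹) := by
            rw [pow_succ']; simp [mul_assoc]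
        _ = (MulAut.conj x a) ^ (r ^ i) := by rw [ih, map_zpow]
        _ = a ^ (r ^ (i + 1)) := by
            rw [MulAut.conj_apply, hr, ← zpow_mul, pow_succ' r]
  have h1 : a ^ (r ^ p - 1) = 1 := by
    rw [zpow_sub_one, ← hit p, hx.eq, mul_inv_cancel_right, mul_inv_cancel]
  rw [← orderOf_dvd_iff_zpow_eq_one, hn, Nat.cast_pow] at h1
  rcases Nat.eq_zero_or_pos n with rfl | hn0
  · rw [pow_zero, orderOf_eq_one_iff] at hn
    simp [hn]
  have hpr : (p : ℤ) ∣ r - 1 := by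
    have h2 : (p : ℤ) ∣ r ^ p - 1 := (dvd_pow_self _ hn0.ne').trans h1
    rw [← ZMod.intCast_eq_intCast_iff_dvd_sub, Int.cast_pow, ZMod.pow_card] at h2
    rwa [← ZMod.intCast_eq_intCast_iff_dvd_sub]
  have h3 : (p : ℤ) ^ n ∣ (p : ℤ) ^ 1 * (r - 1) := by
    have h4 := (CfsgLib.MetacyclicPGroup.dvd_pow_sub_one_iff hp.1 hp2 hpr n 1 0).1
      (by simpa using h1)
    simpa using h4
  have hc : ⁅x, a⁆ = a ^ (r - 1) := by rw [commutatorElement_def, hr, zpow_sub_one]
  rw [hc, ← zpow_natCast, ← zpow_mul, ← orderOf_dvd_iff_zpow_eq_one, hn, Nat.cast_pow, mul_comm]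
  simpa using h3

/-- For `p` odd, the elements of order dividing `p` of a metacyclic `p`-group form a subgroup of
order at most `p ^ 2`. -/
theorem exists_omega_of_isMetacyclic (hp2 : p ≠ 2) (hG : IsPGroup p G)
    (hm : Cfsg.IsMetacyclic G) :
    ∃ K : Subgroup G, (∀ x, x ∈ K ↔ x ^ p = 1) ∧ Nat.card K ∣ p ^ 2 := by
  obtain ⟨N, hN, hNc, hQc⟩ := hm
  haveI : Group.IsNilpotent G := hG.isNilpotent
  -- the elements of order dividing `p` of `N`
  let Z₁ : Subgroup G :=
    { carrier := {x | x ∈ N ∧ x ^ p = 1}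
      one_mem' := ⟨one_mem _, one_pow _⟩
      mul_mem' := fun {x y} hx hy => ⟨mul_mem hx.1 hy.1, by
        have hc : Commute x y := congrArg Subtype.val
          ((hNc.isMulCommutative (α := N)).is_comm.comm ⟨x, hx.1⟩ ⟨y, hy.1⟩)
        rw [hc.mul_pow, hx.2, hy.2, one_mul]⟩
      inv_mem' := fun {x} hx => ⟨inv_mem hx.1, by rw [inv_pow, hx.2, inv_one]⟩ }
  have hZ1card : Nat.card Z₁ ∣ p := by
    have hle : Z₁ ≤ N := fun x hx => hx.1
    haveI : IsCyclic Z₁ := isCyclic_of_injective (Subgroup.inclusion hle)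
      (Subgroup.inclusion_injective hle)
    rw [← IsCyclic.exponent_eq_card]
    exact Monoid.exponent_dvd_of_forall_pow_eq_one fun x => Subtype.ext x.2.2
  haveI hZ1n : Z₁.Normal := ⟨fun x hx g => ⟨hN.conj_mem x hx.1 g, by
    rw [conj_pow, hx.2, mul_one, mul_inv_cancel]⟩⟩
  have hZ1cent : Z₁ ≤ Subgroup.center G := by
    rcases (Nat.dvd_prime hp.1).1 hZ1card with h | h
    · rw [Subgroup.card_eq_one.1 h]; exact bot_le
    · haveI : Fact (Nat.card Z₁).Prime := ⟨h.symm ▸ hp.1⟩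
      have hne : Z₁ ≠ ⊥ := fun e => hp.1.ne_one (by rw [← h, e, Subgroup.card_bot])
      rcases Subgroup.eq_bot_or_eq_top_of_prime_card ((Subgroup.center G).subgroupOf Z₁) with e | e
      · refine absurd ?_ (CfsgLib.Solvable.inf_center_ne_bot hne)
        rw [eq_bot_iff]
        intro x hx
        have : (⟨x, hx.1⟩ : Z₁) ∈ (Subgroup.center G).subgroupOf Z₁ := hx.2
        rw [e, Subgroup.mem_bot] at this
        exact Subgroup.mem_bot.2 (congrArg Subtype.val this)
      · intro x hx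
        exact (e ▸ Subgroup.mem_top _ : (⟨x, hx⟩ : Z₁) ∈ (Subgroup.center G).subgroupOf Z₁)
  -- the preimage of the elements of order dividing `p` of `G ⧸ N`
  letI : CommGroup (G ⧸ N) := hQc.commGroup
  let L : Subgroup G := (powMonoidHom p).ker.comap (QuotientGroup.mk' N)
  have hL : ∀ x ∈ L, x ^ p ∈ N := fun x hx => (QuotientGroup.eq_one_iff _).1 (by
    have : (QuotientGroup.mk' N x) ^ p = 1 := hx
    rwa [← map_pow] at this)
  have hNL : N ≤ L := fun x hx => by
    show (QuotientGroup.mk' N x) ^ p = 1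
    rw [show QuotientGroup.mk' N x = 1 from (QuotientGroup.eq_one_iff _).2 hx, one_pow]
  let q := QuotientGroup.mk' Z₁
  obtain ⟨⟨a, haN⟩, ha⟩ := hNc.exists_generator
  have hgen : ∀ x ∈ N, ∃ k : ℤ, x = a ^ k := fun x hx => by
    obtain ⟨k, hk⟩ := Subgroup.mem_zpowers_iff.1 (ha ⟨x, hx⟩)
    exact ⟨k, (congrArg Subtype.val hk).symm⟩
  have hcomN : ∀ x ∈ L, ∀ y ∈ N, Commute (q x) (q y) := by
    intro x hx y hy
    obtain ⟨k, rfl⟩ := hgen y hy
    obtain ⟨r, hr⟩ := hgen _ (hN.conj_mem a haN x)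
    have hxa : Commute (x ^ p) a := congrArg Subtype.val
      ((hNc.isMulCommutative (α := N)).is_comm.comm ⟨_, hL x hx⟩ ⟨a, haN⟩)
    rw [map_zpow]
    refine Commute.zpow_right ?_ k
    show q x * q a = q a * q x
    rw [← commutatorElement_eq_one_iff_mul_comm, ← map_commutatorElement]
    refine (QuotientGroup.eq_one_iff _).2 ⟨?_, pow_commutator_eq_one_of_pow_commute hp2 hG hr hxa⟩
    rw [commutatorElement_def]
    exact mul_mem (hN.conj_mem a haN x) (inv_mem haN)
  -- `L` is abelian modulo `Z₁`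
  have hcomL : ∀ x ∈ L, ∀ y ∈ L, ⁅x, y⁆ ∈ Z₁ := by
    intro x hx y hy
    obtain ⟨⟨hb, hbL⟩, hh⟩ := (inferInstance : IsCyclic ↥((powMonoidHom p).ker :
      Subgroup (G ⧸ N))).exists_generator
    obtain ⟨h, rfl⟩ := QuotientGroup.mk_surjective hb
    have hhL : h ∈ L := hbL
    have hdec : ∀ z ∈ L, ∃ (i : ℤ) (n : G), n ∈ N ∧ z = h ^ i * n := by
      intro z hz
      obtain ⟨i, hi⟩ := Subgroup.mem_zpowers_iff.1 (hh ⟨QuotientGroup.mk' N z, hz⟩)
      refine ⟨i, (h ^ i)⁻¹ * z, QuotientGroup.eq.1 ?_, by rw [mul_inv_cancel_left]⟩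
      rw [QuotientGroup.mk_zpow]
      exact congrArg Subtype.val hi
    obtain ⟨i, n, hn, rfl⟩ := hdec x hx
    obtain ⟨j, n', hn', rfl⟩ := hdec y hy
    refine (QuotientGroup.eq_one_iff _).1 ?_
    show q ⁅h ^ i * n, h ^ j * n'⁆ = 1
    rw [map_commutatorElement, commutatorElement_eq_one_iff_commute, map_mul, map_mul, map_zpow,
      map_zpow]
    have hnn : Commute (q n) (q n') := hcomN n (hNL hn) n' hn'
    have h1 : Commute (q h ^ i) (q n') := (hcomN h hhL n' hn').zpow_left i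
    have h2 : Commute (q n) (q h ^ j) := ((hcomN h hhL n hn).zpow_left j).symm
    exact Commute.mul_left (((Commute.refl (q h)).zpow_zpow i j).mul_right h1) (h2.mul_right hnn)
  let f : L →* L := CfsgLib.FusionEssential.pPowHom hp2
    (fun x y => Subgroup.mem_center_iff.2 fun z => Subtype.ext
      (Subgroup.mem_center_iff.1 (hZ1cent (hcomL x x.2 y y.2)) z))
    (fun x y => Subtype.ext (hcomL x x.2 y y.2).2)
  have hmemL : ∀ x : G, x ^ p = 1 → x ∈ L := fun x hx => by
    show (QuotientGroup.mk' N x) ^ p = 1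
    rw [← map_pow, hx, map_one]
  refine ⟨f.ker.map L.subtype, fun x => ⟨?_, fun hx => ⟨⟨x, hmemL x hx⟩, Subtype.ext hx, rfl⟩⟩, ?_⟩
  · rintro ⟨y, hy, rfl⟩
    exact congrArg Subtype.val hy
  rw [Subgroup.card_map_of_injective L.subtype_injective]
  -- kernel and image of `f.ker → G ⧸ N`
  let π : f.ker →* G ⧸ N := ((QuotientGroup.mk' N).comp L.subtype).comp f.ker.subtype
  have hker : Nat.card π.ker ∣ p := by
    refine (Subgroup.card_dvd_of_injective
      (((L.subtype.comp f.ker.subtype).comp π.ker.subtype).codRestrict Z₁ fun y =>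
        ⟨(QuotientGroup.eq_one_iff _).1 y.2, congrArg Subtype.val y.1.2⟩) ?_).trans hZ1card
    exact fun y y' h => Subtype.ext (Subtype.ext (Subtype.ext
      (congrArg (fun w : Z₁ => (w : G)) h)))
  have hrange : Nat.card π.range ∣ p := by
    haveI : IsCyclic π.range := inferInstance
    rw [← IsCyclic.exponent_eq_card]
    refine Monoid.exponent_dvd_of_forall_pow_eq_one ?_
    rintro ⟨_, y, rfl⟩
    exact Subtype.ext y.1.2
  rw [← Subgroup.card_mul_index π.ker, Subgroup.index_ker, sq]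
  exact mul_dvd_mul hker hrange

/-- The subgroup generated by the elements of order dividing `p` of a metacyclic subgroup. -/
theorem omegaOne_of_isMetacyclic {Ω : Type*} [Group Ω] (hp2 : p ≠ 2) {P : Subgroup Ω}
    [Finite P] (hP : IsPGroup p P) (hm : Cfsg.IsMetacyclic P) :
    (∀ x ∈ Cfsg.omegaOne p P, x ^ p = 1) ∧ Nat.card (Cfsg.omegaOne p P) ∣ p ^ 2 := by
  obtain ⟨K, hK, hKcard⟩ := exists_omega_of_isMetacyclic hp2 hP hm
  have heq : Cfsg.omegaOne p P = K.map P.subtype := by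
    refine le_antisymm ((Subgroup.closure_le _).2 fun x hx =>
      ⟨⟨x, hx.1⟩, (hK _).2 (Subtype.ext hx.2), rfl⟩) ?_
    rintro _ ⟨y, hy, rfl⟩
    exact Subgroup.subset_closure ⟨y.2, congrArg Subtype.val ((hK y).1 hy)⟩
  rw [heq, Subgroup.card_map_of_injective P.subtype_injective]
  refine ⟨?_, hKcard⟩
  rintro _ ⟨y, hy, rfl⟩
  exact congrArg Subtype.val ((hK y).1 hy)

end CfsgLib.FusionOmega
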